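import Mathlib

/-! Data for the Schur multiplier of the Tits group. -/

set_option autoImplicit false
set_option maxRecDepth 100000

namespace Cfsg.Agent.FGS2.Tits

/-- Letters of the generators of a Sylow 2-subgroup. -/
def tiE : List (List ℕ) := [[0, 2, 7, 8, 9, 10, 11], [3, 4, 5, 6, 7, 8, 9], [1, 4, 5, 6, 7, 10, 11], [1, 9],
    [7, 8, 9, 10], [7, 8, 10], [1, 2, 5, 6, 9], [7, 9], [9, 10], [7, 9, 11], [1, 2, 4, 6, 9]]

/-- Letters of representatives of the two classes of involutions. -/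
def tiReps : List (List ℕ) := [[1], [3]]

/-- The table of squares and conjugates. -/
def tiTab : List (List ℕ) := [[1, 4, 5, 8], [], [], [], [], [], [], [], [], [], [], [1], [], [], [], [], [],
    [], [], [], [], [], [10], [3, 5, 7, 8], [], [], [], [], [], [], [], [], [], [6, 8, 9], [2, 4, 9], [3, 4,
    5], [], [], [], [], [], [], [], [], [4, 5, 7], [5, 7, 9], [4, 7, 9], [4, 7, 9], [], [], [], [], [], [], [],
    [4, 5, 8, 9], [4, 7, 9], [5, 7, 9], [5, 7, 9], [5], [], [], [], [], [], [], [2, 7, 8], [4, 8, 10], [6, 7,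
    8], [5, 6, 8], [6, 7, 9], [6], [], [], [], [], [], [5, 8], [7, 8], [9], [7], [7], [7], [7], [], [], [], [],
    [4, 5, 7, 9], [8], [7, 8, 9], [7, 8, 9], [8], [8], [8], [8], [], [], [], [5, 7, 8, 9], [8, 9], [7], [9],
    [9], [9], [9], [9], [9], [], [], [3, 5, 8, 9], [5, 6, 7, 8, 9], [4, 7, 8, 9, 10], [9, 10], [10], [7, 9,
    10], [7, 8, 9, 10], [10], [10], [10], []]

/-- Words for involutions, with their classes. -/
def tiSqs : List (List ℕ × ℕ) := [([3], 0), ([7], 0), ([8], 0), ([5], 1), ([9], 0), ([4], 1), ([10], 0), ([6],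
    0), ([1], 1), ([2], 0), ([4, 5], 0), ([7, 9], 1), ([3, 7], 0), ([4, 8], 0), ([7, 8], 0), ([4, 7], 0), ([5,
    8], 0), ([5, 7], 0), ([3, 9], 0), ([8, 9], 0), ([4, 9], 0), ([5, 9], 0), ([7, 10], 0), ([6, 7], 0), ([8,
    10], 0), ([6, 8], 0), ([9, 10], 0), ([6, 9], 0), ([4, 10], 0), ([1, 8], 1), ([5, 6], 0), ([3, 4, 5], 0),
    ([4, 5, 7], 1), ([3, 5, 8], 0), ([2, 8, 9], 0), ([3, 4, 8], 0), ([2, 7, 8], 0), ([2, 4, 9], 0), ([1, 4, 5],
    0), ([2, 5, 9], 0), ([1, 7, 9], 0), ([1, 4, 6, 10], 0), ([1, 5, 6, 10], 0), ([1, 2, 3, 4, 7], 1), ([2, 3,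
    6, 9, 10], 0), ([2, 3, 5, 6, 10], 0), ([2, 3, 4, 6, 8, 10], 0), ([1, 2, 3, 4, 6, 10], 1)]

/-- Conjugating words. -/
def tiSqsWit : List (List ℕ) := [[2, 1, 0, 2, 1, 0, 2, 1], [2, 3, 2, 1, 3, 0, 2, 3, 2], [3, 2, 1, 3, 2, 3, 0,
    2], [2, 3, 0, 2, 1, 0], [2, 3, 0, 2, 1, 3, 0, 2, 3, 2], [3, 2, 1, 0], [2, 1, 3, 2, 0, 2, 3, 0, 2, 1], [0,
    2, 1, 0, 2, 3, 2, 0, 2, 3, 2, 1], [0], [0, 2, 3, 2, 3, 2, 0, 2, 3, 2], [3, 2, 3, 2, 1, 3, 0, 2, 3, 2], [1,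
    3, 2, 3, 0, 2, 1, 0], [2, 1, 0, 2, 1, 0, 2, 1, 3, 2, 0, 2], [2, 3, 1, 3, 2, 3, 0, 2], [3, 0, 2, 1, 3, 0, 2,
    3, 2], [2, 1, 3, 0, 2, 3, 2], [3, 2, 0, 2, 1, 3, 2, 3, 0, 2], [0, 2, 1, 3, 2, 3, 0, 2], [2, 0, 2, 3, 2, 0,
    2], [3, 2, 1, 3, 0, 2, 3, 2], [0, 2, 1, 3, 0, 2, 3, 2], [2, 1, 3, 2, 3, 0, 2], [0, 2, 1, 3, 2, 0, 2, 3, 0,
    2, 1], [0, 2, 3, 0, 2], [0, 2, 0, 2, 3, 2], [2, 0, 2, 0, 2, 3, 0, 2], [3, 0, 2, 3, 2, 0, 2], [2, 0, 2, 0,
    2, 3, 2], [3, 1, 0, 2, 1, 0, 2, 1], [1, 0, 2, 1, 0], [2, 3, 1, 0, 2, 0, 2, 1], [], [1, 0], [2, 3, 2, 0, 2,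
    3, 0, 2], [3, 2, 0, 2, 3, 2], [2, 3, 2, 0, 2, 3, 2], [3, 0, 2, 0, 2, 3, 0, 2], [1, 0, 2, 0, 2, 1], [2, 1,
    3, 2, 1, 3, 0, 2, 3, 2], [0, 2], [1, 3, 2, 1, 3, 0, 2, 3, 2], [0, 2, 1, 3, 1, 3, 2, 3, 0, 2], [0, 1, 3, 2,
    0, 2, 1, 3, 2, 3, 0, 2], [], [0, 2, 1, 0, 2, 1, 3, 2, 3, 0, 2], [1, 0, 2, 1, 3, 2, 3, 0, 2], [2, 1, 0, 2,
    1, 3, 2, 3, 0, 2], [2, 1, 3, 0, 2, 1, 0]]

/-- Commuting pairs with conjugates. -/
def tiFus : List (List ℕ × List ℕ × List ℕ × List ℕ) := [([4, 5, 7], [6, 8, 10], [1], [2, 3, 7, 8])]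

/-- The conjugating words. -/
def tiFusBy : List (List ℕ) := [[1]]

/-- Triples for consistency. -/
def tiOvs : List (List ℕ × List ℕ × List ℕ) := [([0], [0, 0], []), ([2], [0, 0], []), ([2], [1, 0], []), ([3],
    [0, 0], []), ([3], [1, 0], []), ([3], [2, 0], []), ([4], [0, 0], []), ([4], [1, 0], []), ([6], [2, 0], []),
    ([6], [2, 1], [])]

/-- Corrections of the lifts. -/
def tiShift : List ℕ := [0, 140192649005740460085024149240545281, 85673531991124843772430232621940736,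
    42837082908212442050077343067668480, 88269046595092069685018437596741632,
    93461977278927011428249682277564416, 12981375971637183186026989174652928,
    51922968585348276285304963292200960, 124615124604835863084731911901282304,
    10384593717069655257060992658440192, 0]

/-- Selected combinations. -/
def tiSel : List ℕ := [0, 0, 0, 0, 0, 0, 0, 0, 0, 0, 0, 102159298527359002, 4295132458, 0, 0, 0, 0, 0, 0, 0, 0,
    0, 43238152565614966, 44381083157677829, 49394330169, 0, 0, 0, 0, 0, 0, 0, 0, 118781977853080881,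
    501191894118024483, 462128398123687924, 49394329656, 0, 0, 0, 0, 0, 0, 0, 108548881328529815,
    461884036686601308, 94862123868095, 53370540140117, 4295132170, 0, 0, 0, 0, 0, 0, 551809652398634547,
    461884348070755679, 95549315489727, 53327590524501, 49394330641, 4295132194, 0, 0, 0, 0, 0, 0,
    461888706216220796, 288693170846967250, 173418345323284142, 6873291550144, 5368874146, 49394329785, 0, 0,
    0, 0, 90242283788085887, 462765148417157, 95055396245893, 49394333754, 4295099400, 4295001120, 49402718395,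
    49394329659, 0, 0, 0, 522767215859748754, 49931200829, 95010297739136, 53340475787882, 4295140366,
    4295197734, 49427884221, 49394346047, 49394329661, 0, 0, 0, 463864660043137, 95003856638341, 49394591784,
    4296180762, 4297229362, 49528547497, 4295134264, 49394853933, 49394329641, 0, 0, 0, 0, 0, 4563567690, 0, 0,
    49398524027, 49411106941, 49461438569, 49394329721]

/-- The square of the outer letter. -/
def tiOutSq : List ℕ := [1, 2, 3, 4, 7]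

/-- The conjugates by the outer letter. -/
def tiOutConj : List (List ℕ) := [[0, 2, 3, 7, 8], [1, 2, 3, 5, 6, 7, 8, 9, 10], [7, 8, 9, 10], [5, 6, 7, 8,
    9], [4, 5, 7], [4, 5, 7, 8], [2, 5, 7, 8, 9], [5, 7, 8, 9], [4, 5], [5, 8], [3, 5, 8, 9]]

/-- The twelve letters in the extended subgroup. -/
def tiLets : List (Bool × List ℕ) := [(true, []), (false, [3, 4, 5]), (true, [0, 1, 6, 7, 8, 9, 10]), (false,
    [1, 2, 3, 4, 7]), (true, [0, 1, 2, 4, 5, 7, 9, 10]), (true, [0, 1, 2, 6, 8]), (false, [2, 3, 4, 5, 6, 9,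
    10]), (false, [4, 5, 7]), (false, [5, 7, 8]), (false, [4, 5]), (false, [4, 5, 8]), (false, [7, 9])]

/-- Two elements of order three and an involution inverting them. -/
def tiThree : List (List ℕ) := [[3, 0, 2, 1, 3, 0, 1, 3, 2, 1, 0, 2, 1, 3, 2, 3, 1, 3, 0, 2, 0], [2, 0, 1, 3,
    2, 3, 2, 3, 1, 0, 2, 3, 2, 3, 2, 1, 3, 2, 0, 1], [2, 3, 0, 1, 0, 3, 2, 0, 2, 3, 0, 1, 3, 1, 3, 1, 3, 0, 2,
    0]]

/-- Two elements of order five and an involution interchanging them. -/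
def tiFive : List (List ℕ) := [[2, 3, 1, 0, 2, 3, 0, 1, 3, 0, 2, 3, 1, 3, 1, 3], [0, 2, 3, 2, 1, 3, 2, 1, 3, 1,
    0, 2, 3, 0, 2, 3, 2, 1, 3, 0], [0, 1, 3, 2, 3, 2, 0, 2, 0, 2, 3, 2, 3, 1, 0]]

end Cfsg.Agent.FGS2.Tits
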